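import Mathlib.LinearAlgebra.ExteriorPower.Basis
import Mathlib.Algebra.Module.Torsion.Basic
import Mathlib.SetTheory.Cardinal.Finite
import Mathlib.Data.Fintype.Powerset

/-!
# Exterior powers of free modules over a quotient ring
-/

set_option autoImplicit false

universe u

open Module

noncomputable section

namespace Groth.Agent.KosTorLib

variable {A : Type u} [CommRing A] (K : Ideal A) {N : Type u} [AddCommGroup N] [Module A N]
  [Module (A ⧸ K) N] [IsScalarTower A (A ⧸ K) N] {n : ℕ}

theorem smul_extPow_eq_zero (hn : 1 ≤ n) {k : A} (hk : k ∈ K) (g : ⋀[A]^n N) : k • g = 0 := by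
  suffices h : (k • LinearMap.id : ⋀[A]^n N →ₗ[A] ⋀[A]^n N) = 0 from LinearMap.congr_fun h g
  refine exteriorPower.linearMap_ext (AlternatingMap.ext fun v => ?_)
  show k • exteriorPower.ιMulti A n v = 0
  have h0 : k • v ⟨0, hn⟩ = 0 := by
    rw [algebra_compatible_smul (A ⧸ K) k (v ⟨0, hn⟩), Ideal.Quotient.algebraMap_eq,
      Ideal.Quotient.eq_zero_iff_mem.2 hk, zero_smul]
  conv_lhs => rw [← Function.update_eq_self ⟨0, hn⟩ v]
  rw [← AlternatingMap.map_update_smul, h0, AlternatingMap.map_update_zero]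

/-- Restriction of an alternating map to the base ring. -/
def restrAlt : N [⋀^Fin n]→ₗ[A] ⋀[A ⧸ K]^n N where
  toFun v := exteriorPower.ιMulti (A ⧸ K) n v
  map_update_add' v i x y := (exteriorPower.ιMulti (A ⧸ K) n).map_update_add v i x y
  map_update_smul' v i a x := by
    rw [algebra_compatible_smul (A ⧸ K) a x, AlternatingMap.map_update_smul, ← algebra_compatible_smul]
  map_eq_zero_of_eq' v i j h hij := (exteriorPower.ιMulti (A ⧸ K) n).map_eq_zero_of_eq v h hij

theorem nonempty_extPow_equiv (hn : 1 ≤ n) : Nonempty ((⋀[A]^n N) ≃ₗ[A] (⋀[A ⧸ K]^n N)) := by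
  have ht : Module.IsTorsionBySet A (⋀[A]^n N) (K : Set A) := fun g k => smul_extPow_eq_zero K hn k.2 g
  letI : Module (A ⧸ K) (⋀[A]^n N) := ht.module
  haveI : IsScalarTower A (A ⧸ K) (⋀[A]^n N) := ht.isScalarTower
  let b : N [⋀^Fin n]→ₗ[A ⧸ K] ⋀[A]^n N :=
    { toFun := fun v => exteriorPower.ιMulti A n v
      map_update_add' := fun v i x y => (exteriorPower.ιMulti A n).map_update_add v i x y
      map_update_smul' := fun v i c x => by
        obtain ⟨a, rfl⟩ := Ideal.Quotient.mk_surjective c
        rw [← Ideal.Quotient.algebraMap_eq, algebraMap_smul, algebraMap_smul, AlternatingMap.map_update_smul]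
      map_eq_zero_of_eq' := fun v i j h hij => (exteriorPower.ιMulti A n).map_eq_zero_of_eq v h hij }
  let F := exteriorPower.alternatingMapLinearEquiv (restrAlt (N := N) (n := n) K)
  let G := exteriorPower.alternatingMapLinearEquiv b
  refine ⟨LinearEquiv.ofLinear F (G.restrictScalars A) (LinearMap.ext fun z => ?_)
    (exteriorPower.linearMap_ext (AlternatingMap.ext fun v => ?_))⟩
  · have hFC : ∀ (c : A ⧸ K) (g : ⋀[A]^n N), F (c • g) = c • F g := fun c g => by
      obtain ⟨a, rfl⟩ := Ideal.Quotient.mk_surjective c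
      rw [← Ideal.Quotient.algebraMap_eq, algebraMap_smul, algebraMap_smul, map_smul]
    let F' : (⋀[A]^n N) →ₗ[A ⧸ K] (⋀[A ⧸ K]^n N) := { toFun := F, map_add' := map_add F, map_smul' := hFC }
    have h : F'.comp G = LinearMap.id := exteriorPower.linearMap_ext (AlternatingMap.ext fun v => by
      show F (G (exteriorPower.ιMulti (A ⧸ K) n v)) = exteriorPower.ιMulti (A ⧸ K) n v
      rw [exteriorPower.alternatingMapLinearEquiv_apply_ιMulti]
      exact exteriorPower.alternatingMapLinearEquiv_apply_ιMulti (restrAlt (N := N) (n := n) K) v)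
    exact LinearMap.congr_fun h z
  · show G (F (exteriorPower.ιMulti A n v)) = exteriorPower.ιMulti A n v
    rw [exteriorPower.alternatingMapLinearEquiv_apply_ιMulti]
    exact exteriorPower.alternatingMapLinearEquiv_apply_ιMulti b v

theorem nonempty_extPow_free (r : ℕ) (hn : 1 ≤ n) :
    Nonempty ((⋀[A]^n (Fin r → A ⧸ K)) ≃ₗ[A] (Fin (r.choose n) → A ⧸ K)) := by
  obtain ⟨e⟩ := nonempty_extPow_equiv (N := Fin r → A ⧸ K) K hn
  let B := (Pi.basisFun (A ⧸ K) (Fin r)).exteriorPower n
  haveI : Fintype (Set.powersetCard (Fin r) n) := Fintype.ofFinite _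
  let σ : Set.powersetCard (Fin r) n ≃ Fin (r.choose n) :=
    Fintype.equivFinOfCardEq (by rw [← Nat.card_eq_fintype_card, Set.powersetCard.card, Nat.card_eq_fintype_card, Fintype.card_fin])
  exact ⟨e.trans ((B.reindex σ).equivFun.restrictScalars A)⟩

end Groth.Agent.KosTorLib
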