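import Groth.Agent.KosTorLib.Resol
import Groth.Agent.KosTorLib.ExtQuot
import Groth.Agent.KoszulNullLib.Main
import Mathlib.Algebra.Homology.Embedding.RestrictionHomology

/-!
# Tor of two Koszul-regular quotients meeting excessively
-/

set_option autoImplicit false
set_option linter.style.haveILetI false
set_option backward.isDefEq.respectTransparency false

universe u

open CategoryTheory CategoryTheory.Limits MonoidalCategory CochainComplex

noncomputable section

namespace Groth.Agent.KosTorLib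

open Groth.Agent.KoszulCech Groth.Agent.KosStableLib Groth.Agent.TorLib CohIII Groth.Agent.KoszulNullLib

variable {A : Type u} [CommRing A]

theorem smul_X_eq_zero (M : ModuleCat.{u} A) {y : A} (hy : ∀ m : M, y • m = 0) :
    ∀ (l : List A) (k : ℤ) (x : (koszulCx M l).X k), y • x = 0
  | [], k, x => by
    by_cases hk : k = 0
    · subst hk
      apply (HomologicalComplex.singleObjXSelf (ComplexShape.up ℤ) 0 M).toLinearEquiv.injective
      rw [map_smul, map_zero, hy]
    · haveI : Subsingleton ((koszulCx M []).X k) := ModuleCat.subsingleton_of_isZero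
        (HomologicalComplex.isZero_single_obj_X _ _ _ _ hk)
      exact Subsingleton.elim _ _
  | f :: l, k, x => cone_ext (f • 𝟙 (koszulCx M l)) (rfl : k + 1 = k + 1)
      ((map_smul _ _ _).trans ((smul_X_eq_zero M hy l _ _).trans (map_zero _).symm))
      ((map_smul _ _ _).trans ((smul_X_eq_zero M hy l _ _).trans (map_zero _).symm))

theorem nonempty_homology_append_zero (M : ModuleCat.{u} A) (l : List A) : ∀ ys : List A,
    (∀ y ∈ ys, ∀ x : M, y • x = 0) → ∀ m : ℤ,
      Nonempty ((koszulCx M (ys ++ l)).homology m ≃ₗ[A]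
        ((i : Idx ys.length) → (koszulCx M l).homology (m + wt i)))
  | [], _, m => ⟨(hcast (koszulCx M l) (show m = m + ((0 : ℕ) : ℤ) by simp)).trans
      (LinearEquiv.piUnique A fun i : Idx 0 => (koszulCx M l).homology (m + wt i)).symm⟩
  | y :: ys, hys, m => by
    have h0 : y • 𝟙 (koszulCx M (ys ++ l)) = 0 := by
      ext k x
      exact smul_X_eq_zero M (hys y (by simp)) _ k x
    obtain ⟨E⟩ := KoszulNullLib.nonempty_homology_equiv (Homotopy.ofEq h0) (m := m) (m' := m + 1) (by omega)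
    obtain ⟨e₁⟩ := nonempty_homology_append_zero M l ys (fun z hz => hys z (by simp [hz])) m
    obtain ⟨e₂⟩ := nonempty_homology_append_zero M l ys (fun z hz => hys z (by simp [hz])) (m + 1)
    have hc : ∀ i : Idx ys.length, m + 1 + (wt i : ℤ) = m + ((wt i + 1 : ℕ) : ℤ) := fun i => by push_cast; ring
    exact ⟨E.trans ((e₁.prodCongr (e₂.trans (LinearEquiv.piCongrRight fun i =>
      hcast (koszulCx M l) (hc i)))).trans
        (LinearEquiv.sumPiEquivProdPi A (Idx ys.length) (Idx ys.length)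
          fun i : Idx (ys.length + 1) => (koszulCx M l).homology (m + wt i)).symm)⟩

theorem nonempty_excess (M : ModuleCat.{u} A) (ys l : List A) (hys : ∀ y ∈ ys, ∀ x : M, y • x = 0)
    (hl : ∀ k : ℤ, k ≠ 0 → Subsingleton ((koszulCx M l).homology k)) (n : ℕ) :
    Nonempty ((koszulCx M (ys ++ l)).homology (-(n : ℤ)) ≃ₗ[A]
      (Fin (ys.length.choose n) → (M ⧸ (Ideal.ofList l • (⊤ : Submodule A M))))) := by
  obtain ⟨e⟩ := nonempty_homology_append_zero M l ys hys (-(n : ℤ))
  obtain ⟨t⟩ := KoszulCech.nonempty_top_equiv M l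
  obtain ⟨σ⟩ := nonempty_fibre ys.length n
  let R : ((i : Idx ys.length) → (koszulCx M l).homology (-(n : ℤ) + wt i)) →ₗ[A]
      ({i : Idx ys.length // wt i = n} → (koszulCx M l).homology 0) :=
    LinearMap.pi fun i => (hcast (koszulCx M l) (show -(n : ℤ) + wt i.1 = 0 by rw [i.2]; omega)).toLinearMap.comp
      (LinearMap.proj i.1)
  have hR : Function.Bijective R := by
    classical
    refine ⟨fun x y h => funext fun i => ?_, fun y => ⟨fun i => if h : wt i = n then
      (hcast (koszulCx M l) (show -(n : ℤ) + wt i = 0 by rw [h]; omega)).symm (y ⟨i, h⟩) else 0, funext fun i => ?_⟩⟩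
    · by_cases hi : wt i = n
      · exact (hcast (koszulCx M l) (show -(n : ℤ) + wt i = 0 by rw [hi]; omega)).injective (congr_fun h ⟨i, hi⟩)
      · haveI := hl (-(n : ℤ) + wt i) (by omega)
        exact Subsingleton.elim _ _
    · show hcast (koszulCx M l) _ (dite _ _ _) = y i
      rw [dif_pos i.2]
      exact LinearEquiv.apply_symm_apply _ _
  exact ⟨e.trans ((LinearEquiv.ofBijective R hR).trans ((LinearEquiv.piCongrRight fun _ => t).trans
    (LinearEquiv.funCongrLeft A _ σ.symm)))⟩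

variable {B : Type u} [CommRing B] [Algebra A B]

/-- Tor computed by the Koszul resolution. -/
theorem nonempty_tor_koszul (g : List A) (hg : LCI.IsKoszulRegularSeq A g) (hs : Function.Surjective (algebraMap A B))
    (hk : RingHom.ker (algebraMap A B) = Ideal.ofList g) (M : ModuleCat.{u} A) (n : ℕ) :
    Nonempty ((((Tor (ModuleCat.{u} A) (n + 1)).obj M).obj (ModuleCat.of A B)) ≅
      (koszulCx M g).homology (-((n + 1 : ℕ) : ℤ))) := by
  obtain ⟨P, hP⟩ := exists_resolution g hg hs hk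
  let T := ((tensorRight M).mapHomologicalComplex (ComplexShape.up ℤ)).obj (koszulCx (ModuleCat.of A A) g)
  let e₁ : ((tensorLeft M).mapHomologicalComplex (ComplexShape.down ℕ)).obj (kosC g) ≅
      T.restriction ComplexShape.embeddingDownNat :=
    HomologicalComplex.Hom.isoOfComponents (fun i => β_ M ((kosC g).X i)) fun i j _ =>
      (BraidedCategory.braiding_naturality_right M ((kosC g).d i j)).symm
  let e₂ := T.restrictionHomologyIso ComplexShape.embeddingDownNat (n + 2) (n + 1) n (by simp) (by simp)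
    (i' := -((n + 2 : ℕ) : ℤ)) (j' := -((n + 1 : ℕ) : ℤ)) (k' := -(n : ℤ)) rfl rfl rfl
    (by simp; omega) (by simp)
  let e₃ : T ≅ koszulCx M g := eqToIso (congrArg
    ((tensorRight M).mapHomologicalComplex (ComplexShape.up ℤ)).obj (CILib.koszul_eq g).symm) ≪≫
    KEulerLib.tensorCxKoszulIso M g
  exact ⟨TorLib.torIso P M (n + 1) ≪≫ eqToIso (by rw [← hP]; rfl) ≪≫
    (HomologicalComplex.homologyFunctor _ _ (n + 1)).mapIso e₁ ≪≫ e₂ ≪≫
    (HomologicalComplex.homologyFunctor _ _ _).mapIso e₃⟩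

theorem nonempty_tor_excess (f g h : List A)
    (hfg : LCI.IsKoszulRegularSeq A (f ++ g)) (hfh : LCI.IsKoszulRegularSeq A (f ++ h))
    (hfgh : LCI.IsKoszulRegularSeq A (f ++ g ++ h)) (n : ℕ) :
    Nonempty ((((Tor (ModuleCat.{u} A) (n + 1)).obj (ModuleCat.of A (A ⧸ Ideal.span {x | x ∈ f ++ g}))).obj
        (ModuleCat.of A (A ⧸ Ideal.span {x | x ∈ f ++ h}))) ≅
      ModuleCat.of A (Fin (f.length.choose (n + 1)) →
        A ⧸ (Ideal.ofList (f ++ g) ⊔ Ideal.ofList h))) := by
  let B := A ⧸ Ideal.span {x | x ∈ f ++ g}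
  have hk : ∀ k : ℤ, k ≠ 0 → Subsingleton ((koszulCx (ModuleCat.of A B) h).homology k) := fun k hk => by
    have h1 : LCI.IsKoszulRegularSeq A (h ++ (f ++ g)) :=
      CILib.isKoszulRegularSeq_perm List.perm_append_comm hfgh
    have h2 := (CILib.isKoszulRegularSeq_iff_ex _).1 ((CILib.isKoszulRegularSeq_append_iff (B := B) (f ++ g) hfg
      Ideal.Quotient.mk_surjective Ideal.mk_ker h).1 h1) k hk
    have e : ∀ l : List A, koszulCx (ModuleCat.of A B) l =
        kz l ((HomologicalComplex.single (ModuleCat.{u} A) (ComplexShape.up ℤ) 0).obj (ModuleCat.of A B)) := by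
      intro l
      induction l with
      | nil => rfl
      | cons a l ih =>
        show CochainComplex.mappingCone (a • 𝟙 (koszulCx (ModuleCat.of A B) l)) = _
        rw [ih]
        rfl
    refine ModuleCat.subsingleton_of_isZero ((ex_iff _ k).1 ?_)
    rw [e, ((CILib.SemiIso.single (A := A) (B := B)).kz h).ex_iff, kz_single_eq]
    exact h2
  have hkill : ∀ y ∈ f, ∀ x : (ModuleCat.of A B), y • x = 0 := by
    intro y hy x
    obtain ⟨x, rfl⟩ := Ideal.Quotient.mk_surjective (I := Ideal.span {x | x ∈ f ++ g}) x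
    exact Ideal.Quotient.eq_zero_iff_mem.2 (Ideal.mul_mem_right x _ (Ideal.subset_span (List.mem_append_left g hy)))
  obtain ⟨e₁⟩ := nonempty_tor_koszul (B := A ⧸ Ideal.span {x | x ∈ f ++ h}) (f ++ h) hfh
    Ideal.Quotient.mk_surjective Ideal.mk_ker (ModuleCat.of A B) n
  obtain ⟨e₂⟩ := nonempty_excess (ModuleCat.of A B) f h hkill hk (n + 1)
  have hsub : (Ideal.ofList h • (⊤ : Submodule A B)) =
      Submodule.map (Submodule.mkQ (Ideal.ofList (f ++ g))) (Ideal.ofList (f ++ g) ⊔ Ideal.ofList h) := by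
    rw [Submodule.map_sup, Submodule.mkQ_map_self, bot_sup_eq]
    conv_rhs => rw [← mul_one (Ideal.ofList h), Ideal.one_eq_top, ← smul_eq_mul, Submodule.map_smul'',
      Submodule.map_top, Submodule.range_mkQ]
  let e₃ : (B ⧸ (Ideal.ofList h • (⊤ : Submodule A B))) ≃ₗ[A] (A ⧸ (Ideal.ofList (f ++ g) ⊔ Ideal.ofList h)) :=
    (Submodule.quotEquivOfEq _ _ hsub).trans (Submodule.quotientQuotientEquivQuotient _ _ le_sup_left)
  exact ⟨e₁ ≪≫ (e₂.trans (LinearEquiv.piCongrRight fun _ => e₃)).toModuleIso⟩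

theorem nonempty_tor_extPow (f g h : List A)
    (hfg : LCI.IsKoszulRegularSeq A (f ++ g)) (hfh : LCI.IsKoszulRegularSeq A (f ++ h))
    (hfgh : LCI.IsKoszulRegularSeq A (f ++ g ++ h)) (i : ℕ) (hi : 1 ≤ i) :
    Nonempty (((CategoryTheory.Tor (ModuleCat.{u} A) i).obj (ModuleCat.of A (A ⧸ Ideal.span {x | x ∈ f ++ g}))).obj (ModuleCat.of A (A ⧸ Ideal.span {x | x ∈ f ++ h})) ≅
      ModuleCat.of A (⋀[A]^i (((CategoryTheory.Tor (ModuleCat.{u} A) 1).obj (ModuleCat.of A (A ⧸ Ideal.span {x | x ∈ f ++ g}))).obj (ModuleCat.of A (A ⧸ Ideal.span {x | x ∈ f ++ h}))))) := by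
  obtain ⟨n, rfl⟩ : ∃ n, i = n + 1 := ⟨i - 1, by omega⟩
  obtain ⟨e⟩ := nonempty_tor_excess f g h hfg hfh hfgh n
  obtain ⟨e₁⟩ := nonempty_tor_excess f g h hfg hfh hfgh 0
  let K := Ideal.ofList (f ++ g) ⊔ Ideal.ofList h
  obtain ⟨w⟩ := nonempty_extPow_free K f.length hi
  let T₁ := ((CategoryTheory.Tor (ModuleCat.{u} A) 1).obj (ModuleCat.of A (A ⧸ Ideal.span {x | x ∈ f ++ g}))).obj
    (ModuleCat.of A (A ⧸ Ideal.span {x | x ∈ f ++ h}))
  let l₁ : T₁ ≃ₗ[A] (Fin f.length → A ⧸ K) :=
    e₁.toLinearEquiv.trans (LinearEquiv.funCongrLeft A _ (finCongr (Nat.choose_one_right f.length).symm))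
  let m₁ : (⋀[A]^(n + 1) T₁) ≃ₗ[A] (⋀[A]^(n + 1) (Fin f.length → A ⧸ K)) :=
    LinearEquiv.ofLinear (exteriorPower.map (n + 1) l₁.toLinearMap) (exteriorPower.map (n + 1) l₁.symm.toLinearMap)
      (by rw [← exteriorPower.map_comp, LinearEquiv.comp_symm, exteriorPower.map_id])
      (by rw [← exteriorPower.map_comp, LinearEquiv.symm_comp, exteriorPower.map_id])
  exact ⟨e ≪≫ ((m₁.trans w).symm).toModuleIso⟩

end Groth.Agent.KosTorLib
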