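import Groth.Agent.KosTorLib.Resol
import Groth.Agent.TorVanLib.Basic
import Groth.Agent.CancelLib.Scheme
import Mathlib.RingTheory.MvPolynomial.Homogeneous
import Mathlib.LinearAlgebra.Finsupp.LSum

/-!
# Tor of the powers of an ideal generated by a Koszul-regular sequence
-/

set_option autoImplicit false
set_option linter.style.haveILetI false

universe u

open CategoryTheory CategoryTheory.Limits

noncomputable section

namespace Groth.Agent.KosTorLib

open Groth.Agent.TorVanLib

variable {A : Type u} [CommRing A]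

/-- The successive quotients of the powers of a quasi-regular ideal are free. -/
theorem exists_gr_equiv {c : ℕ} (f : Fin c → A) (hf : CAlgX.IsQuasiRegular f) (n : ℕ) :
    ∃ ι : Type u, Nonempty ((↥(Ideal.span (Set.range f) ^ n) ⧸
      Submodule.comap (Ideal.span (Set.range f) ^ n).subtype (Ideal.span (Set.range f) ^ (n + 1))) ≃ₗ[A]
      (ι →₀ (A ⧸ Ideal.span (Set.range f)))) := by
  classical
  let J := Ideal.span (Set.range f)
  let D := ULift.{u} {d : Fin c →₀ ℕ // d.degree = n}
  let Q := ↥(J ^ n) ⧸ Submodule.comap (J ^ n).subtype (J ^ (n + 1))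
  have hev : ∀ P : MvPolynomial (Fin c) A, P.IsHomogeneous n → MvPolynomial.eval f P ∈ J ^ n := fun P hP =>
    (Ideal.mem_span_pow_iff_exists_isHomogeneous f _).2 ⟨P, hP, rfl⟩
  let poly : (D →₀ A) →ₗ[A] MvPolynomial (Fin c) A :=
    Finsupp.lsum A fun d => MvPolynomial.monomial d.down.1
  have hhom : ∀ a, (poly a).IsHomogeneous n := fun a => by
    rw [show poly a = a.sum fun d r => MvPolynomial.monomial d.down.1 r from rfl]
    exact MvPolynomial.IsHomogeneous.sum _ _ _ fun d _ => MvPolynomial.isHomogeneous_monomial _ d.down.2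
  have hcoeff : ∀ (a : D →₀ A) (d : D), (poly a).coeff d.down.1 = a d := fun a d => by
    induction a using Finsupp.induction_linear with
    | zero => simp
    | add x y hx hy => rw [map_add, MvPolynomial.coeff_add, hx, hy]; rfl
    | single d' r =>
      rw [show poly (Finsupp.single d' r) = MvPolynomial.monomial d'.down.1 r from Finsupp.lsum_single _ _ _ _,
        MvPolynomial.coeff_monomial, Finsupp.single_apply]
      exact if_congr ⟨fun h => ULift.ext _ _ (Subtype.ext h), fun h => by rw [h]⟩ rfl rfl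
  let Φ : (D →₀ A) →ₗ[A] Q := (Submodule.mkQ _).comp
    ((((MvPolynomial.aeval f).toLinearMap).comp poly).codRestrict (J ^ n) fun a => by
      show MvPolynomial.aeval f (poly a) ∈ J ^ n
      rw [MvPolynomial.aeval_eq_eval]
      exact hev _ (hhom a))
  have hΦ : Function.Surjective Φ := fun q => by
    obtain ⟨⟨x, hx⟩, rfl⟩ := Submodule.mkQ_surjective _ q
    obtain ⟨P, hP, rfl⟩ := (Ideal.mem_span_pow_iff_exists_isHomogeneous f x).1 hx
    let a : D →₀ A := ∑ d ∈ P.support.attach,
      Finsupp.single (⟨d.1, (hP.degree_eq_sum_deg_support d.2).symm⟩ : D) (P.coeff d.1)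
    have ha : poly a = P := by
      rw [map_sum]
      conv_rhs => rw [P.as_sum, ← Finset.sum_attach]
      exact Finset.sum_congr rfl fun d _ => Finsupp.lsum_single _ _ _ _
    refine ⟨a, congrArg (Submodule.mkQ _) (Subtype.ext ?_)⟩
    show MvPolynomial.aeval f (poly a) = _
    rw [ha, MvPolynomial.aeval_eq_eval]
  let q : (D →₀ A) →ₗ[A] (D →₀ A ⧸ J) := Finsupp.mapRange.linearMap (Submodule.mkQ J)
  have hq : Function.Surjective q := Finsupp.mapRange_surjective _ (map_zero _) (Submodule.mkQ_surjective J)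
  have hker : LinearMap.ker Φ = LinearMap.ker q := by
    ext a
    have h1 : Φ a = 0 ↔ MvPolynomial.eval f (poly a) ∈ J ^ (n + 1) := by
      show Submodule.Quotient.mk _ = 0 ↔ _
      rw [Submodule.Quotient.mk_eq_zero, Submodule.mem_comap]
      show MvPolynomial.aeval f (poly a) ∈ J ^ (n + 1) ↔ _
      rw [MvPolynomial.aeval_eq_eval]
    rw [LinearMap.mem_ker, LinearMap.mem_ker, h1]
    constructor
    · intro h
      ext d
      show Submodule.Quotient.mk (a d) = 0
      rw [Submodule.Quotient.mk_eq_zero, ← hcoeff]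
      exact hf n _ (hhom a) h _
    · intro h
      have ha : ∀ d, a d ∈ J := fun d => by
        rw [← Submodule.Quotient.mk_eq_zero (p := J)]
        exact DFunLike.congr_fun h d
      rw [show poly a = a.sum fun d r => MvPolynomial.monomial d.down.1 r from rfl, Finsupp.sum, map_sum]
      refine sum_mem fun d _ => ?_
      rw [← mul_one (a d), ← MvPolynomial.C_mul_monomial, map_mul, MvPolynomial.eval_C, pow_succ']
      exact Ideal.mul_mem_mul (ha d) (hev _ (MvPolynomial.isHomogeneous_monomial _ d.down.2))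
  exact ⟨D, ⟨(Φ.quotKerEquivOfSurjective hΦ).symm.trans
    ((Submodule.quotEquivOfEq _ _ hker).trans (q.quotKerEquivOfSurjective hq))⟩⟩

/-- The main vanishing. -/
theorem isZero_tor_powers (A' : Type u) [CommRing A'] [Algebra A A'] (fs : List A)
    (hfs : LCI.IsKoszulRegularSeq A fs) (hfs' : LCI.IsKoszulRegularSeq A' (fs.map (algebraMap A A')))
    (n : ℕ) (i : ℕ) (hi : 1 ≤ i) :
    IsZero (((Tor (ModuleCat.{u} A) i).obj (ModuleCat.of A ↥(Ideal.span {x | x ∈ fs} ^ n))).obj (ModuleCat.of A A')) ∧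
    IsZero (((Tor (ModuleCat.{u} A) i).obj (ModuleCat.of A
      (↥(Ideal.span {x | x ∈ fs} ^ n) ⧸ Submodule.comap (Ideal.span {x | x ∈ fs} ^ n).subtype (Ideal.span {x | x ∈ fs} ^ (n + 1))))).obj
        (ModuleCat.of A A')) := by
  obtain ⟨P⟩ := (inferInstance : HasProjectiveResolution (ModuleCat.of A A')).out
  suffices h : ∀ n i : ℕ, V P (i + 1) ↥(Ideal.span {x | x ∈ fs} ^ n) ∧ V P (i + 1)
      (↥(Ideal.span {x | x ∈ fs} ^ n) ⧸ Submodule.comap (Ideal.span {x | x ∈ fs} ^ n).subtype (Ideal.span {x | x ∈ fs} ^ (n + 1))) by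
    obtain ⟨i, rfl⟩ : ∃ j, i = j + 1 := ⟨i - 1, by omega⟩
    exact ⟨((V_iff P _ _).1 (h n i).1).of_iso (TorLib.torIso P _ (i + 1)),
      ((V_iff P _ _).1 (h n i).2).of_iso (TorLib.torIso P _ (i + 1))⟩
  have hq : CAlgX.IsQuasiRegular fs.get := CancelLib.isQuasiRegular_of_seq .koszul hfs
  have hJ : Ideal.span {x | x ∈ fs} = Ideal.span (Set.range fs.get) := by
    congr 1
    exact Set.ext fun x => List.mem_iff_get
  rw [hJ]
  let J := Ideal.span (Set.range fs.get)
  have hB : ∀ m : ℕ, V P (m + 1) (A ⧸ J) := fun m => by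
    haveI := subsingleton_tor_quot (B := A ⧸ J) fs hfs Ideal.Quotient.mk_surjective
      (Ideal.mk_ker.trans hJ.symm) A' hfs' m
    refine (V_iff P _ _).2 (IsZero.of_iso ?_ (TorLib.torIso P (ModuleCat.of A (A ⧸ J)) (m + 1)).symm)
    exact @ModuleCat.isZero_of_subsingleton _ _ _ this
  have hgr : ∀ (n m : ℕ), V P (m + 1) (↥(J ^ n) ⧸ Submodule.comap (J ^ n).subtype (J ^ (n + 1))) := fun n m => by
    obtain ⟨ι, ⟨e⟩⟩ := exists_gr_equiv fs.get hq n
    exact V_congr P _ e.symm (V_free P (A ⧸ J) m (hB m) ι)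
  intro n
  induction n with
  | zero =>
    intro m
    refine ⟨?_, hgr 0 m⟩
    haveI : Module.Flat A ↥(J ^ 0) := Module.Flat.of_linearEquiv
      ((LinearEquiv.ofEq (J ^ 0) ⊤ (by rw [pow_zero, Ideal.one_eq_top])).trans Submodule.topEquiv)
    exact V_of_flat P m _
  | succ n ih =>
    intro m
    refine ⟨?_, hgr (n + 1) m⟩
    let p : Submodule A ↥(J ^ n) := Submodule.comap (J ^ n).subtype (J ^ (n + 1))
    have hle : J ^ (n + 1) ≤ J ^ n := Ideal.pow_le_pow_right (Nat.le_succ n)
    exact V_congr P _ (Submodule.comapSubtypeEquivOfLe hle)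
      (V_left P Subtype.val_injective (Submodule.mkQ_surjective p) (LinearMap.exact_subtype_mkQ p) (m + 1)
        (hgr n (m + 1)) (ih m).1)

end Groth.Agent.KosTorLib
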