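import Groth.Agent.CILib.KoszulCalc
import Groth.Agent.CECharPLib.Koszul
import Groth.Agent.KEulerLib.Cone
import Groth.Agent.TorLib.Symm
import Mathlib.Algebra.Homology.Embedding.Restriction

/-!
# The Koszul complex of a Koszul-regular sequence as a projective resolution
-/

set_option autoImplicit false
set_option linter.style.haveILetI false
set_option backward.isDefEq.respectTransparency false

universe u

open CategoryTheory CategoryTheory.Limits MonoidalCategory
open scoped TensorProduct

noncomputable section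

namespace Groth.Agent.KosTorLib

open Groth.Agent.KoszulCech Groth.Agent.KosStableLib Groth.Agent.TorLib

variable {A : Type u} [CommRing A]

/-- The Koszul complex indexed by natural numbers. -/
abbrev kosC (g : List A) : ChainComplex (ModuleCat.{u} A) ℕ :=
  (CohIII.koszulCx (ModuleCat.of A A) g).restriction ComplexShape.embeddingDownNat

variable {B : Type u} [CommRing B] [Algebra A B]

/-- The augmentation. -/
def augHom (g : List A) : (kosC g).X 0 ⟶ ModuleCat.of A B :=
  ModuleCat.ofHom (show (CohIII.koszulCx (ModuleCat.of A A) g).X 0 →ₗ[A] B from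
    (Algebra.linearMap A B).comp (kaug (ModuleCat.of A A) g))

theorem augHom_eq_zero_iff (g : List A) (hk : RingHom.ker (algebraMap A B) = Ideal.ofList g)
    (x : (CohIII.koszulCx (ModuleCat.of A A) g).X 0) :
    Algebra.linearMap A B (kaug (ModuleCat.of A A) g x) = 0 ↔
      ∃ w, (CohIII.koszulCx (ModuleCat.of A A) g).d (-1) 0 w = x := by
  refine Iff.trans ?_ (kaug_mem_iff (ModuleCat.of A A) g x)
  rw [smul_eq_mul, Ideal.mul_top, ← hk, RingHom.mem_ker]
  rfl

theorem d_comp_augHom (g : List A) (hk : RingHom.ker (algebraMap A B) = Ideal.ofList g) :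
    (kosC g).d 1 0 ≫ augHom (B := B) g = 0 := by
  ext w
  exact (augHom_eq_zero_iff g hk _).2 ⟨w, rfl⟩

theorem exists_resolution (g : List A) (hg : LCI.IsKoszulRegularSeq A g) (hs : Function.Surjective (algebraMap A B))
    (hk : RingHom.ker (algebraMap A B) = Ideal.ofList g) :
    ∃ P : ProjectiveResolution (ModuleCat.of A B), P.complex = kosC g := by
  rw [CILib.isKoszulRegularSeq_iff_ex, CILib.koszul_eq] at hg
  let π : kosC g ⟶ (ChainComplex.single₀ (ModuleCat.{u} A)).obj (ModuleCat.of A B) :=
    (ChainComplex.toSingle₀Equiv _ _).symm ⟨augHom g, d_comp_augHom g hk⟩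
  refine ⟨{ complex := kosC g, projective := fun n => ?_, π := π, quasiIso := ⟨fun n => ?_⟩ }, rfl⟩
  · haveI : Module.Free A ((kosC g).X n) :=
      show Module.Free A ((CohIII.koszulCx (ModuleCat.of A A) g).X (-(n : ℤ))) by
        rw [← CILib.koszul_eq]; exact CECharPLib.koszul_free g _
    exact ModuleCat.projective_of_free (Module.Free.chooseBasis A _)
  · cases n with
    | zero =>
      rw [ChainComplex.quasiIsoAt₀_iff, ShortComplex.quasiIso_iff_of_zeros']
      · have hπ : π.f 0 = augHom g := ChainComplex.toSingle₀Equiv_symm_apply_f_zero _ _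
        refine (ShortComplex.exact_and_epi_g_iff_of_iso ?_).2
          (show (ShortComplex.mk ((kosC g).d 1 0) (augHom (B := B) g) (d_comp_augHom g hk)).Exact ∧
            Epi (augHom (B := B) g) from ⟨?_, ?_⟩)
        · refine ShortComplex.isoMk (Iso.refl _) (Iso.refl _) (Iso.refl _) (by simp) ?_
          simp [hπ]
        · rw [ShortComplex.moduleCat_exact_iff]
          exact fun x hx => (augHom_eq_zero_iff g hk x).1 hx
        · rw [ModuleCat.epi_iff_surjective]
          intro b
          obtain ⟨a, ha⟩ := hs b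
          obtain ⟨x, hx⟩ := kaug_surjective (ModuleCat.of A A) g a
          exact ⟨x, (congrArg (Algebra.linearMap A B) hx).trans ha⟩
      all_goals first | rfl | simp
    | succ m =>
      rw [quasiIsoAt_iff_exactAt' _ _ (ChainComplex.exactAt_succ_single_obj _ _),
        HomologicalComplex.exactAt_iff' _ (m + 2) (m + 1) m (by simp) (by simp), ShortComplex.moduleCat_exact_iff]
      intro x hx
      have h := hg (-((m + 1 : ℕ) : ℤ)) (by omega)
      have e1 : -((m + 1 : ℕ) : ℤ) + 1 = -(m : ℤ) := by omega
      have e2 : -((m + 1 : ℕ) : ℤ) - 1 = -((m + 2 : ℕ) : ℤ) := by omega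
      rw [Ex, e1, e2] at h
      exact h x hx

/-- Tensoring Koszul complexes with a ring over which the sequence stays Koszul regular. -/
theorem exact_rTensor (g : List A) (A' : Type u) [CommRing A'] [Algebra A A']
    (hg' : LCI.IsKoszulRegularSeq A' (g.map (algebraMap A A'))) (k : ℤ) (hk : k ≠ 0) :
    Function.Exact (((CohIII.koszulCx (ModuleCat.of A A) g).d (k - 1) k).hom.rTensor A')
      (((CohIII.koszulCx (ModuleCat.of A A) g).d k (k + 1)).hom.rTensor A') := by
  rw [CILib.isKoszulRegularSeq_iff_ex] at hg'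
  have h1 : Ex (CohIII.koszulCx (ModuleCat.of A A') g) k := by
    have e : ∀ l : List A, CohIII.koszulCx (ModuleCat.of A A') l =
        kz l ((HomologicalComplex.single (ModuleCat.{u} A) (ComplexShape.up ℤ) 0).obj (ModuleCat.of A A')) := by
      intro l
      induction l with
      | nil => rfl
      | cons f l ih =>
        show CochainComplex.mappingCone (f • 𝟙 (CohIII.koszulCx (ModuleCat.of A A') l)) = _
        rw [ih]
        rfl
    rw [e, ((CILib.SemiIso.single (A := A) (B := A')).kz g).ex_iff, kz_single_eq]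
    exact hg' k hk
  have h2 : Ex (DRing.tensorCx (CohIII.koszulCx (ModuleCat.of A A) g) (ModuleCat.of A A')) k := by
    rw [← CILib.koszul_eq, ex_iff]
    exact ((ex_iff _ k).1 h1).of_iso ((HomologicalComplex.homologyFunctor (ModuleCat.{u} A) (ComplexShape.up ℤ) k).mapIso
      (KEulerLib.tensorCxKoszulIso (ModuleCat.of A A') g))
  intro y
  refine ⟨fun hy => h2 y hy, ?_⟩
  rintro ⟨w, rfl⟩
  rw [← LinearMap.comp_apply, ← LinearMap.rTensor_comp, ← ModuleCat.hom_comp,
    HomologicalComplex.d_comp_d, ModuleCat.hom_zero, LinearMap.rTensor_zero, LinearMap.zero_apply]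

theorem subsingleton_tor_quot (g : List A) (hg : LCI.IsKoszulRegularSeq A g)
    (hs : Function.Surjective (algebraMap A B)) (hk : RingHom.ker (algebraMap A B) = Ideal.ofList g)
    (A' : Type u) [CommRing A'] [Algebra A A'] (hg' : LCI.IsKoszulRegularSeq A' (g.map (algebraMap A A'))) (n : ℕ) :
    Subsingleton (DRing.Tor A (n + 1) B A') := by
  obtain ⟨P, hP⟩ := exists_resolution g hg hs hk
  obtain ⟨e⟩ := tor_symm (A := A) (n + 1) B A'
  refine e.toEquiv.subsingleton_congr.2 (ModuleCat.subsingleton_of_isZero (IsZero.of_iso ?_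
    (torIso P (ModuleCat.of A A') (n + 1))))
  rw [← HomologicalComplex.exactAt_iff_isZero_homology,
    HomologicalComplex.exactAt_iff' _ (n + 2) (n + 1) n (by simp) (by simp),
    ShortComplex.ShortExact.moduleCat_exact_iff_function_exact]
  show Function.Exact ((P.complex.d (n + 2) (n + 1)).hom.lTensor A') ((P.complex.d (n + 1) n).hom.lTensor A')
  rw [hP]
  have h := exact_rTensor g A' hg' (-((n + 1 : ℕ) : ℤ)) (by omega)
  have e1 : -((n + 1 : ℕ) : ℤ) + 1 = -(n : ℤ) := by omega
  have e2 : -((n + 1 : ℕ) : ℤ) - 1 = -((n + 2 : ℕ) : ℤ) := by omega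
  rw [e1, e2] at h
  refine (Function.Exact.iff_of_ladder_linearEquiv (e₁ := TensorProduct.comm A _ A') (e₂ := TensorProduct.comm A _ A')
    (e₃ := TensorProduct.comm A _ A') ?_ ?_).2 h <;> exact TensorProduct.ext' fun x y => rfl

end Groth.Agent.KosTorLib
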